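/-
The number of conjugacy classes of a permutation group of degree `n` with `c` orbits is at most
`2 ^ (n - c)`.  The proof is an induction on the order of the group, with the stronger statement
that a point stabiliser has at most that many orbits on the group in the conjugation action.
-/
import Mathlib
import Cfsg.Agent.EqLemmas

set_option autoImplicit false

namespace Cfsg.Agent.PermClass

open Finset

variable {X : Type*} [Fintype X] [DecidableEq X]

open Classical in
/-- The elements of a subgroup, as a finite set. -/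
noncomputable def els (G : Subgroup (Equiv.Perm X)) : Finset (Equiv.Perm X) :=
  univ.filter (fun g => g ∈ G)

lemma mem_els {G : Subgroup (Equiv.Perm X)} {g : Equiv.Perm X} : g ∈ els G ↔ g ∈ G := by
  simp [els]

lemma one_mem_els (G : Subgroup (Equiv.Perm X)) : (1 : Equiv.Perm X) ∈ els G :=
  mem_els.mpr G.one_mem

/-- The orbit of a point, as a finite set. -/
noncomputable def orb (G : Subgroup (Equiv.Perm X)) (x : X) : Finset X :=
  (els G).image (fun g => g x)

lemma mem_orb {G : Subgroup (Equiv.Perm X)} {x y : X} :
    y ∈ orb G x ↔ ∃ g ∈ G, g x = y := by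
  simp [orb, mem_els]

lemma self_mem_orb (G : Subgroup (Equiv.Perm X)) (x : X) : x ∈ orb G x :=
  mem_orb.mpr ⟨1, G.one_mem, rfl⟩

lemma orb_eq_of_mem {G : Subgroup (Equiv.Perm X)} {x y : X} (h : y ∈ orb G x) :
    orb G y = orb G x := by
  obtain ⟨a, ha, rfl⟩ := mem_orb.mp h
  ext z
  simp only [mem_orb]
  constructor
  · rintro ⟨g, hg, rfl⟩
    exact ⟨g * a, G.mul_mem hg ha, rfl⟩
  · rintro ⟨g, hg, rfl⟩
    exact ⟨g * a⁻¹, G.mul_mem hg (G.inv_mem ha), by simp [Equiv.Perm.mul_apply]⟩

lemma orb_mono {H G : Subgroup (Equiv.Perm X)} (hHG : H ≤ G) (x : X) : orb H x ⊆ orb G x := by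
  intro y hy
  obtain ⟨g, hg, rfl⟩ := mem_orb.mp hy
  exact mem_orb.mpr ⟨g, hHG hg, rfl⟩

/-- The stabiliser of a point in a permutation group. -/
def stab (G : Subgroup (Equiv.Perm X)) (x : X) : Subgroup (Equiv.Perm X) where
  carrier := {g | g ∈ G ∧ g x = x}
  one_mem' := ⟨G.one_mem, rfl⟩
  mul_mem' := by
    rintro a b ⟨ha, hax⟩ ⟨hb, hbx⟩
    exact ⟨G.mul_mem ha hb, by simp [Equiv.Perm.mul_apply, hax, hbx]⟩
  inv_mem' := by
    rintro a ⟨ha, hax⟩
    exact ⟨G.inv_mem ha, by
      have h : a⁻¹ (a x) = x := by simp
      rwa [hax] at h⟩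

lemma mem_stab {G : Subgroup (Equiv.Perm X)} {x : X} {g : Equiv.Perm X} :
    g ∈ stab G x ↔ g ∈ G ∧ g x = x := Iff.rfl

lemma stab_le (G : Subgroup (Equiv.Perm X)) (x : X) : stab G x ≤ G := fun _ h => h.1

/-- The number of commuting pairs in `A × G`. -/
noncomputable def pairs (A G : Subgroup (Equiv.Perm X)) : ℕ :=
  ∑ h ∈ els A, ((els G).filter (fun g => g * h = h * g)).card

lemma pairs_comm (A G : Subgroup (Equiv.Perm X)) : pairs A G = pairs G A := by
  unfold pairs
  simp only [Finset.card_filter]
  rw [Finset.sum_comm]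
  refine Finset.sum_congr rfl (fun g _ => Finset.sum_congr rfl (fun h _ => ?_))
  simp only [eq_comm]

/-- The number of orbits. -/
noncomputable def numOrb (G : Subgroup (Equiv.Perm X)) : ℕ :=
  ((univ : Finset X).image (orb G)).card

lemma numOrb_le (G : Subgroup (Equiv.Perm X)) : numOrb G ≤ Fintype.card X :=
  Finset.card_image_le

/-- Orbit–stabiliser, summed over a union of orbits. -/
lemma sum_card_stab (H : Subgroup (Equiv.Perm X)) (D : Finset X)
    (hD : ∀ x ∈ D, orb H x ⊆ D) :
    ∑ x ∈ D, (els (stab H x)).card = (D.image (orb H)).card * (els H).card := by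
  rw [← Finset.sum_fiberwise_of_maps_to (g := orb H) (t := D.image (orb H))
    (fun x hx => Finset.mem_image_of_mem _ hx)]
  rw [Finset.card_eq_sum_ones, Finset.sum_mul]
  refine Finset.sum_congr rfl (fun O hO => ?_)
  obtain ⟨x, hx, rfl⟩ := Finset.mem_image.mp hO
  have hfib : D.filter (fun y => orb H y = orb H x) = orb H x := by
    ext y
    simp only [mem_filter]
    refine ⟨fun h => h.2 ▸ self_mem_orb H y, fun h => ⟨hD x hx h, orb_eq_of_mem h⟩⟩
  rw [hfib, one_mul]
  -- both sides count the pairs `(y, h)` with `h ∈ H`, `h x = y`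
  have hcount : (els H).card = ∑ y ∈ orb H x, ((els H).filter (fun h => h x = y)).card :=
    Finset.card_eq_sum_card_fiberwise (fun h hh => Finset.mem_image_of_mem _ hh)
  rw [hcount]
  refine Finset.sum_congr rfl (fun y hy => ?_)
  obtain ⟨a, ha, hay⟩ := mem_orb.mp hy
  refine Finset.card_bij' (fun h _ => h * a) (fun h _ => h * a⁻¹) ?_ ?_ ?_ ?_
  · intro h hh
    obtain ⟨hh1, hh2⟩ := mem_stab.mp (mem_els.mp hh)
    exact mem_filter.mpr ⟨mem_els.mpr (H.mul_mem hh1 ha), by
      rw [Equiv.Perm.mul_apply, hay, hh2]⟩
  · intro h hh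
    obtain ⟨hh1, hh2⟩ := mem_filter.mp hh
    refine mem_els.mpr (mem_stab.mpr ⟨H.mul_mem (mem_els.mp hh1) (H.inv_mem ha), ?_⟩)
    have hax : a⁻¹ y = x := by rw [← hay]; simp
    rw [Equiv.Perm.mul_apply, hax, hh2]
  · intro h _; simp
  · intro h _; simp

/-- The conjugacy classes are at most as many as the orbits of any subgroup. -/
lemma pairs_self_mul_le {K G : Subgroup (Equiv.Perm X)} (hKG : K ≤ G) :
    pairs G G * (els K).card ≤ (els G).card * pairs K G := by
  rw [pairs_comm K G]
  unfold pairs
  rw [Finset.sum_mul, Finset.mul_sum]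
  refine Finset.sum_le_sum (fun h _ => ?_)
  set C := (els G).filter (fun g => g * h = h * g) with hC
  set CK := (els K).filter (fun g => g * h = h * g) with hCK
  rw [← Finset.card_product]
  calc (C ×ˢ els K).card ≤ CK.card * (els G).card := by
        refine Finset.card_le_mul_card_image_of_maps_to (f := fun p => p.1 * p.2) ?_ _ ?_
        · intro p hp
          obtain ⟨h1, h2⟩ := mem_product.mp hp
          exact mem_els.mpr (G.mul_mem (mem_els.mp (mem_filter.mp h1).1) (hKG (mem_els.mp h2)))
        · intro z _
          rcases ((C ×ˢ els K).filter (fun p => p.1 * p.2 = z)).eq_empty_or_nonempty with he | he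
          · rw [he]; simp
          · obtain ⟨p₀, hp₀⟩ := he
            obtain ⟨hp₀', hz₀⟩ := mem_filter.mp hp₀
            obtain ⟨hc₀, hk₀⟩ := mem_product.mp hp₀'
            refine Finset.card_le_card_of_injOn (fun p => p₀.1⁻¹ * p.1) ?_ ?_
            · intro p hp
              obtain ⟨hp', hz⟩ := mem_filter.mp hp
              obtain ⟨hc, hk⟩ := mem_product.mp hp'
              have heq : p₀.1⁻¹ * p.1 = p₀.2 * p.2⁻¹ := by
                rw [inv_mul_eq_iff_eq_mul, ← mul_assoc, eq_mul_inv_iff_mul_eq, hz, hz₀]
              refine mem_filter.mpr ⟨?_, ?_⟩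
              · show p₀.1⁻¹ * p.1 ∈ els K
                rw [heq]
                exact mem_els.mpr (K.mul_mem (mem_els.mp hk₀) (K.inv_mem (mem_els.mp hk)))
              · have a₀ : Commute p₀.1 h := (mem_filter.mp hc₀).2
                have a₁ : Commute p.1 h := (mem_filter.mp hc).2
                exact (a₀.inv_left.mul_left a₁).eq
            · intro p hp q hq hpq
              have h1 : p.1 = q.1 := mul_left_cancel hpq
              have h2 : p.1 * p.2 = q.1 * q.2 := by
                rw [(mem_filter.mp hp).2, (mem_filter.mp hq).2]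
              rw [h1] at h2
              exact Prod.ext h1 (mul_left_cancel h2)
    _ = (els G).card * CK.card := mul_comm _ _

/-- The recursion: pairs of the stabiliser are bounded by those inside the stabiliser. -/
lemma pairs_stab_le (G : Subgroup (Equiv.Perm X)) (a : X) :
    pairs (stab G a) G ≤ ∑ b ∈ orb G a, pairs (stab (stab G a) b) (stab G a) := by
  set H := stab G a with hH
  have hsplit : ∀ h ∈ els H, ((els G).filter (fun g => g * h = h * g)).card ≤
      ∑ b ∈ orb G a, if h ∈ els (stab H b) then
        ((els H).filter (fun g => g * h = h * g)).card else 0 := by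
    intro h hh
    obtain ⟨hhG, hha⟩ := mem_stab.mp (mem_els.mp hh)
    rw [Finset.card_eq_sum_card_fiberwise (f := fun g => g a) (t := orb G a) (fun g hg =>
      mem_orb.mpr ⟨g, mem_els.mp (mem_filter.mp hg).1, rfl⟩)]
    refine Finset.sum_le_sum (fun b _ => ?_)
    set F := ((els G).filter (fun g => g * h = h * g)).filter (fun g => g a = b) with hF
    rcases F.eq_empty_or_nonempty with he | he
    · rw [he]; simp
    · obtain ⟨g₀, hg₀⟩ := he
      obtain ⟨hg₀', hb₀⟩ := mem_filter.mp hg₀
      obtain ⟨hg₀G, hg₀h⟩ := mem_filter.mp hg₀'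
      have hhb : h b = b := by
        rw [← hb₀, ← Equiv.Perm.mul_apply, ← hg₀h, Equiv.Perm.mul_apply, hha]
      rw [if_pos (mem_els.mpr (mem_stab.mpr ⟨mem_els.mp hh, hhb⟩))]
      refine Finset.card_le_card_of_injOn (fun g => g₀⁻¹ * g) ?_ ?_
      · intro g hg
        obtain ⟨hg', hgb⟩ := mem_filter.mp hg
        obtain ⟨hgG, hgh⟩ := mem_filter.mp hg'
        refine mem_filter.mpr ⟨mem_els.mpr (mem_stab.mpr
          ⟨G.mul_mem (G.inv_mem (mem_els.mp hg₀G)) (mem_els.mp hgG), ?_⟩), ?_⟩
        · rw [Equiv.Perm.mul_apply, hgb, ← hb₀]; simp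
        · have a₀ : Commute g₀ h := hg₀h
          have a₁ : Commute g h := hgh
          exact (a₀.inv_left.mul_left a₁).eq
      · intro g _ g' _ hgg
        exact mul_left_cancel hgg
  calc pairs H G ≤ ∑ h ∈ els H, ∑ b ∈ orb G a, if h ∈ els (stab H b) then
        ((els H).filter (fun g => g * h = h * g)).card else 0 := Finset.sum_le_sum hsplit
    _ = ∑ b ∈ orb G a, pairs (stab H b) H := by
        rw [Finset.sum_comm]
        refine Finset.sum_congr rfl (fun b _ => ?_)
        unfold pairs
        rw [← Finset.sum_filter]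
        refine Finset.sum_congr ?_ (fun _ _ => rfl)
        ext h
        simp only [mem_filter, mem_els]
        exact ⟨fun hh => hh.2, fun hh => ⟨hh.1, hh⟩⟩

/-- The orbits of the stabiliser of a point outnumber those of the group as expected. -/
lemma numOrb_stab_ge (G : Subgroup (Equiv.Perm X)) (a : X) :
    numOrb G + ((orb G a).image (orb (stab G a))).card ≤ numOrb (stab G a) + 1 := by
  set H := stab G a with hH
  set D := orb G a with hD
  set A := D.image (orb H) with hA
  set B := (univ \ D).image (orb H) with hB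
  have hdisj : Disjoint A B := by
    rw [Finset.disjoint_left]
    intro O hOA hOB
    obtain ⟨x, hx, rfl⟩ := Finset.mem_image.mp hOA
    obtain ⟨y, hy, hxy⟩ := Finset.mem_image.mp hOB
    have h1 : y ∈ orb H x := hxy ▸ self_mem_orb H y
    have h2 : y ∈ D := by
      have := orb_mono (stab_le G a) x h1
      rwa [orb_eq_of_mem hx] at this
    exact (mem_sdiff.mp hy).2 h2
  have hsum : numOrb H = A.card + B.card := by
    rw [← Finset.card_union_of_disjoint hdisj, hA, hB, ← Finset.image_union]
    unfold numOrb
    congr 2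
    simp
  have hB' : numOrb G ≤ B.card + 1 := by
    have hsub : (univ : Finset X).image (orb G) ⊆
        insert D (B.image (fun O => O.biUnion (orb G))) := by
      intro O hO
      obtain ⟨x, -, rfl⟩ := Finset.mem_image.mp hO
      by_cases hx : x ∈ D
      · exact Finset.mem_insert.mpr (Or.inl (orb_eq_of_mem hx))
      · refine Finset.mem_insert.mpr (Or.inr (Finset.mem_image.mpr ⟨orb H x,
          Finset.mem_image_of_mem _ (mem_sdiff.mpr ⟨mem_univ _, hx⟩), ?_⟩))
        ext z
        simp only [mem_biUnion]
        constructor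
        · rintro ⟨y, hy, hz⟩
          rwa [orb_eq_of_mem (orb_mono (stab_le G a) x hy)] at hz
        · exact fun hz => ⟨x, self_mem_orb H x, hz⟩
    calc numOrb G ≤ (insert D (B.image (fun O => O.biUnion (orb G)))).card :=
          Finset.card_le_card hsub
      _ ≤ (B.image (fun O => O.biUnion (orb G))).card + 1 := Finset.card_insert_le _ _
      _ ≤ B.card + 1 := Nat.add_le_add_right Finset.card_image_le 1
  omega

/-- A point stabiliser has at most `2 ^ (n - c)` orbits on the group, in the form of a bound
on commuting pairs. -/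
theorem pairs_stab_bound (G : Subgroup (Equiv.Perm X)) : ∀ a : X,
    pairs (stab G a) G ≤ (els (stab G a)).card * 2 ^ (Fintype.card X - numOrb G) := by
  induction hn : (els G).card using Nat.strong_induction_on generalizing G with
  | _ n ih =>
    subst hn
    have hmoved : ∀ a : X, stab G a ≠ G →
        pairs (stab G a) G ≤ (els (stab G a)).card * 2 ^ (Fintype.card X - numOrb G) := by
      intro a hne
      set H := stab G a with hH
      set D := orb G a with hD
      have hlt : (els H).card < (els G).card := by
        refine Finset.card_lt_card ?_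
        rw [Finset.ssubset_iff_subset_ne]
        refine ⟨fun g hg => mem_els.mpr (stab_le G a (mem_els.mp hg)), fun he => hne ?_⟩
        ext g
        rw [← mem_els (G := H), he, mem_els]
      have hclosed : ∀ x ∈ D, orb H x ⊆ D := fun x hx y hy => by
        have := orb_mono (stab_le G a) x hy
        rwa [orb_eq_of_mem hx] at this
      have hcount := numOrb_stab_ge G a
      rw [← hH, ← hD] at hcount
      set m := (D.image (orb H)).card with hm
      have hm1 : 1 ≤ m := Finset.card_pos.mpr ⟨_, Finset.mem_image_of_mem _ (self_mem_orb G a)⟩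
      have hle := numOrb_le H
      calc pairs H G ≤ ∑ b ∈ D, pairs (stab H b) H := pairs_stab_le G a
        _ ≤ ∑ b ∈ D, (els (stab H b)).card * 2 ^ (Fintype.card X - numOrb H) :=
            Finset.sum_le_sum (fun b _ => ih _ hlt H rfl b)
        _ = m * (els H).card * 2 ^ (Fintype.card X - numOrb H) := by
            rw [← Finset.sum_mul, sum_card_stab H D hclosed]
        _ = (els H).card * (m * 2 ^ (Fintype.card X - numOrb H)) := by ring
        _ ≤ (els H).card * 2 ^ (Fintype.card X - numOrb G) := by
            refine Nat.mul_le_mul_left _ ?_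
            have hm2 : m ≤ 2 ^ (m - 1) := by
              have := Nat.lt_two_pow_self (n := m - 1)
              omega
            calc m * 2 ^ (Fintype.card X - numOrb H)
                ≤ 2 ^ (m - 1) * 2 ^ (Fintype.card X - numOrb H) := Nat.mul_le_mul_right _ hm2
              _ = 2 ^ (m - 1 + (Fintype.card X - numOrb H)) := (pow_add _ _ _).symm
              _ ≤ 2 ^ (Fintype.card X - numOrb G) := Nat.pow_le_pow_right (by norm_num) (by omega)
    intro a
    by_cases hne : stab G a = G
    · rw [hne]
      by_cases hex : ∃ b, stab G b ≠ G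
      · obtain ⟨b, hb⟩ := hex
        have h1 := pairs_self_mul_le (stab_le G b)
        have h2 := hmoved b hb
        have hpos : 0 < (els (stab G b)).card := Finset.card_pos.mpr ⟨1, one_mem_els _⟩
        refine Nat.le_of_mul_le_mul_right ?_ hpos
        calc pairs G G * (els (stab G b)).card ≤ (els G).card * pairs (stab G b) G := h1
          _ ≤ (els G).card * ((els (stab G b)).card * 2 ^ (Fintype.card X - numOrb G)) :=
              Nat.mul_le_mul_left _ h2
          _ = (els G).card * 2 ^ (Fintype.card X - numOrb G) * (els (stab G b)).card := by ring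
      · push Not at hex
        have htriv : els G = {1} := by
          ext g
          simp only [mem_els, mem_singleton]
          refine ⟨fun hg => ?_, fun hg => hg ▸ G.one_mem⟩
          ext x
          exact ((mem_stab.mp ((hex x).symm ▸ hg : g ∈ stab G x))).2
        unfold pairs
        rw [htriv]
        simp [Nat.one_le_two_pow]
    · exact hmoved a hne

/-- A permutation group of degree `n` with `c` orbits has at most `2 ^ (n - c)` classes. -/
theorem pairs_self_le (G : Subgroup (Equiv.Perm X)) (a : X) :
    pairs G G ≤ (els G).card * 2 ^ (Fintype.card X - numOrb G) := by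
  have h1 := pairs_self_mul_le (stab_le G a)
  have hpos : 0 < (els (stab G a)).card := Finset.card_pos.mpr ⟨1, one_mem_els _⟩
  refine Nat.le_of_mul_le_mul_right ?_ hpos
  calc pairs G G * (els (stab G a)).card ≤ (els G).card * pairs (stab G a) G := h1
    _ ≤ (els G).card * ((els (stab G a)).card * 2 ^ (Fintype.card X - numOrb G)) :=
        Nat.mul_le_mul_left _ (pairs_stab_bound G a)
    _ = (els G).card * 2 ^ (Fintype.card X - numOrb G) * (els (stab G a)).card := by ring

lemma card_els (G : Subgroup (Equiv.Perm X)) : (els G).card = Nat.card G := by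
  classical
  rw [Nat.card_eq_fintype_card, Fintype.card_subtype]
  simp [els]

lemma pairs_self_eq (G : Subgroup (Equiv.Perm X)) :
    pairs G G = Nat.card (ConjClasses G) * (els G).card := by
  classical
  rw [card_els, ← card_comm_eq_card_conjClasses_mul_card, Nat.card_eq_fintype_card]
  have e : ((els G ×ˢ els G).filter (fun p => p.2 * p.1 = p.1 * p.2)).card =
      Fintype.card { p : G × G // Commute p.1 p.2 } := by
    rw [Fintype.card_subtype]
    refine Finset.card_bij'
      (fun p hp => (⟨p.1, mem_els.mp (mem_product.mp (mem_filter.mp hp).1).1⟩,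
        ⟨p.2, mem_els.mp (mem_product.mp (mem_filter.mp hp).1).2⟩))
      (fun p _ => ((p.1 : Equiv.Perm X), (p.2 : Equiv.Perm X))) ?_ ?_ ?_ ?_
    · intro p hp
      exact mem_filter.mpr ⟨mem_univ _, Subtype.ext (mem_filter.mp hp).2.symm⟩
    · intro p hp
      refine mem_filter.mpr ⟨mem_product.mpr ⟨mem_els.mpr p.1.2, mem_els.mpr p.2.2⟩, ?_⟩
      exact (congrArg Subtype.val (mem_filter.mp hp).2.eq).symm
    · intros; rfl
    · intros; rfl
  rw [← e]
  unfold pairs
  rw [Finset.card_filter, Finset.sum_product]
  refine Finset.sum_congr rfl (fun h _ => ?_)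
  rw [Finset.card_filter]

/-- At most `2 ^ (n - 1)` conjugacy classes in degree `n`. -/
theorem card_conjClasses_le_two_pow (G : Subgroup (Equiv.Perm X)) :
    Nat.card (ConjClasses G) ≤ 2 ^ (Fintype.card X - 1) := by
  rcases isEmpty_or_nonempty X with hX | ⟨⟨a⟩⟩
  · haveI : Subsingleton (ConjClasses G) :=
      Function.Surjective.subsingleton ConjClasses.mk_surjective
    rw [Nat.card_of_subsingleton (ConjClasses.mk (1 : G))]
    exact Nat.one_le_two_pow
  · have h1 := pairs_self_le G a
    rw [pairs_self_eq, mul_comm] at h1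
    have hpos : 0 < (els G).card := Finset.card_pos.mpr ⟨1, one_mem_els _⟩
    have h2 := Nat.le_of_mul_le_mul_left h1 hpos
    refine h2.trans (Nat.pow_le_pow_right (by norm_num) ?_)
    have : 1 ≤ numOrb G := Finset.card_pos.mpr ⟨_, Finset.mem_image_of_mem _ (mem_univ a)⟩
    omega

end Cfsg.Agent.PermClass
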